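import Groth.Agent.FlatCrit.Basic
import Mathlib.Algebra.TrivSqZeroExt.Basic

/-!
# Injectivity modulo the maximal ideal
-/

universe u

open scoped TensorProduct
open LinearMap Function

namespace Groth.Agent.FlatCrit

variable {R : Type u} [CommRing R] [IsLocalRing R] {M N : Type u} [AddCommGroup M] [Module R M]
  [Module.Flat R M] [AddCommGroup N] [Module R N]

local notation "k" => IsLocalRing.ResidueField R
local notation "𝔪" => IsLocalRing.maximalIdeal R

theorem lTensor_injective_of_maximalIdeal_smul_eq_bot (u : N →ₗ[R] M)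
    (h : Injective (u.lTensor k)) {Q : Type u} [AddCommGroup Q] [Module R Q]
    (hQ : 𝔪 • (⊤ : Submodule R Q) = ⊥) : Injective (u.lTensor Q) := by
  have htor : Module.IsTorsionBySet R Q 𝔪 := fun x a => by
    have : (a : R) • x ∈ 𝔪 • (⊤ : Submodule R Q) := Submodule.smul_mem_smul a.2 trivial
    simpa [hQ] using this
  letI : Module k Q := htor.module
  haveI : IsScalarTower R k Q := htor.isScalarTower
  let uk : k ⊗[R] N →ₗ[k] k ⊗[R] M := u.baseChange k
  have hk : Injective uk := h
  have h2 := Module.Flat.lTensor_preserves_injective_linearMap (M := Q) uk hk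
  let eN := TensorProduct.AlgebraTensorModule.cancelBaseChange R k k Q N
  let eM := TensorProduct.AlgebraTensorModule.cancelBaseChange R k k Q M
  have hnat : ∀ x, eM (uk.lTensor Q x) = u.lTensor Q (eN x) := by
    intro x
    induction x with
    | zero => simp
    | add x y hx hy => simp [hx, hy]
    | tmul q y =>
      induction y with
      | zero => simp
      | add x y hx hy => simp_all [TensorProduct.tmul_add]
      | tmul a n => simp [eN, eM, uk]
  intro x y hxy
  obtain ⟨x, rfl⟩ := eN.surjective x
  obtain ⟨y, rfl⟩ := eN.surjective y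
  rw [← hnat, ← hnat] at hxy
  exact congrArg eN (h2 (eM.injective hxy))

theorem lTensor_injective_of_pow_smul_eq_bot (u : N →ₗ[R] M) (h : Injective (u.lTensor k)) (n : ℕ)
    {Q : Type u} [AddCommGroup Q] [Module R Q] (hQ : 𝔪 ^ n • (⊤ : Submodule R Q) = ⊥) :
    Injective (u.lTensor Q) := by
  induction n generalizing Q with
  | zero =>
    rw [pow_zero, Ideal.one_eq_top, Submodule.top_smul] at hQ
    haveI : Subsingleton Q :=
      (Submodule.subsingleton_iff R).mp (subsingleton_iff_bot_eq_top.mp hQ.symm)
    exact fun _ _ _ => Subsingleton.elim _ _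
  | succ n ih =>
    let Q' : Submodule R Q := 𝔪 • ⊤
    rw [injective_iff_map_eq_zero]
    intro x hx
    have h2 : Q'.mkQ.rTensor N x = 0 := by
      apply lTensor_injective_of_maximalIdeal_smul_eq_bot u h (Q := Q ⧸ Q')
      · rw [← Submodule.range_mkQ Q', ← Submodule.map_top, ← Submodule.map_smul'',
          Submodule.mkQ_map_self]
      · rw [map_zero, ← LinearMap.comp_apply, LinearMap.lTensor_comp_rTensor,
          ← LinearMap.rTensor_comp_lTensor, LinearMap.comp_apply, hx, map_zero]
    obtain ⟨y, rfl⟩ :=
      (rTensor_exact N (LinearMap.exact_subtype_mkQ Q') (Submodule.mkQ_surjective _) x).mp h2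
    suffices y = 0 by simp [this]
    apply ih (Q := Q')
    · apply Submodule.map_injective_of_injective Q'.injective_subtype
      rw [Submodule.map_smul'', Submodule.map_top, Submodule.range_subtype, Submodule.map_bot,
        ← mul_smul, ← pow_succ, hQ]
    · apply Module.Flat.rTensor_preserves_injective_linearMap (M := M) Q'.subtype Subtype.val_injective
      rw [← LinearMap.comp_apply, LinearMap.rTensor_comp_lTensor, ← LinearMap.lTensor_comp_rTensor,
        LinearMap.comp_apply, hx, map_zero, map_zero]

variable {S : Type u} [CommRing S] [Algebra R S] [IsNoetherianRing S] [Module S N]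
  [IsScalarTower R S N] [Module.Finite S N]

theorem rTensor_injective_of_finite (hS : (𝔪).map (algebraMap R S) ≤ Ideal.jacobson ⊥)
    (u : N →ₗ[R] M) (h : Injective (u.lTensor k)) (Q : Type u) [AddCommGroup Q] [Module R Q]
    [Module.Finite R Q] : Injective (u.rTensor Q) := by
  haveI := finite_tensor (R := R) (S := S) (M := N) Q
  rw [injective_iff_map_eq_zero]
  intro x hx
  apply eq_zero_of_forall_mem_pow_smul (S := S) hS
  intro n
  let Q' : Submodule R Q := 𝔪 ^ n • ⊤
  have hbot : (𝔪 ^ n) • (⊤ : Submodule R (Q ⧸ Q')) = ⊥ := by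
    rw [← Submodule.range_mkQ Q', ← Submodule.map_top, ← Submodule.map_smul'', Submodule.mkQ_map_self]
  have hinj : Injective (u.rTensor (Q ⧸ Q')) :=
    (LinearMap.lTensor_inj_iff_rTensor_inj _ _).mp (lTensor_injective_of_pow_smul_eq_bot u h n hbot)
  have h2 : Q'.mkQ.lTensor N x = 0 := by
    apply hinj
    rw [map_zero, ← LinearMap.comp_apply, LinearMap.rTensor_comp_lTensor,
      ← LinearMap.lTensor_comp_rTensor, LinearMap.comp_apply, hx, map_zero]
  obtain ⟨y, rfl⟩ :=
    (_root_.lTensor_exact N (LinearMap.exact_subtype_mkQ Q') (Submodule.mkQ_surjective _) x).mp h2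
  exact range_lTensor_subtype_le (𝔪 ^ n) Q' le_rfl ⟨y, rfl⟩

theorem injective_and_flat_coker (hS : (𝔪).map (algebraMap R S) ≤ Ideal.jacobson ⊥)
    (u : N →ₗ[R] M) (h : Injective (u.lTensor k)) :
    Injective u ∧ Module.Flat R (M ⧸ LinearMap.range u) := by
  have hu : Injective u := by
    intro x y hxy
    apply (TensorProduct.rid R N).symm.injective
    apply rTensor_injective_of_finite (S := S) hS u h R
    simp [hxy]
  refine ⟨hu, Module.Flat.iff_lTensor_injective'.mpr fun J => ?_⟩
  exact lTensor_injective_of_exact_of_exact_of_rTensor_injective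
    (LinearMap.exact_map_mkQ_range u) (Submodule.mkQ_surjective _)
    (LinearMap.exact_subtype_mkQ J) (Submodule.mkQ_surjective _)
    (rTensor_injective_of_finite (S := S) hS u h (R ⧸ J))
    (Module.Flat.lTensor_preserves_injective_linearMap _ Subtype.val_injective)

end Groth.Agent.FlatCrit
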