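import Mathlib.RingTheory.LocalRing.Module
import Mathlib.RingTheory.Flat.Localization
import Mathlib.RingTheory.Filtration
import Mathlib.LinearAlgebra.DirectSum.Finsupp
import Mathlib.Algebra.Module.Torsion.Basic
import Mathlib.RingTheory.TensorProduct.Finite
import Mathlib.RingTheory.Ideal.Quotient.Operations
import Mathlib.RingTheory.Artinian.Ring

/-!
# Criteria of flatness

`TorZero R M Q` is the vanishing of `Tor₁(M, Q)`, phrased through a free presentation of `M`.
-/

universe u

open scoped TensorProduct
open LinearMap Function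

namespace Groth.Agent.FlatCrit

section TorZero

variable (R : Type u) [CommRing R] (M : Type u) [AddCommGroup M] [Module R M]

/-- The relations of the tautological free presentation of `M`. -/
noncomputable def rel : Submodule R (M →₀ R) := LinearMap.ker (Finsupp.linearCombination R (id : M → M))

noncomputable instance instAddCommGroupRel : AddCommGroup ↥(rel R M) := Submodule.addCommGroup (rel R M)

/-- `Tor₁(M, Q) = 0`. -/
def TorZero (Q : Type u) [AddCommGroup Q] [Module R Q] : Prop :=
  Injective ((rel R M).subtype.rTensor Q)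

variable {R M}
variable {K : Type u} [AddCommGroup K] [Module R K] {P : Type u} [AddCommGroup P] [Module R P]
  {Q : Type u} [AddCommGroup Q] [Module R Q]

theorem exact_rel : Exact (rel R M).subtype (Finsupp.linearCombination R (id : M → M)) :=
  LinearMap.exact_subtype_ker_map _

theorem surjective_rel : Surjective (Finsupp.linearCombination R (id : M → M)) :=
  Finsupp.linearCombination_id_surjective R M

theorem TorZero.lTensor_injective (h : TorZero R M Q) {f : K →ₗ[R] P} {g : P →ₗ[R] Q}
    (hf : Injective f) (he : Exact f g) (hg : Surjective g) : Injective (f.lTensor M) :=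
  lTensor_injective_of_exact_of_exact_of_rTensor_injective exact_rel surjective_rel he hg h
    (Module.Flat.lTensor_preserves_injective_linearMap f hf)

theorem TorZero.of_presentation (hP : TorZero R M P) {f : K →ₗ[R] P} {g : P →ₗ[R] Q}
    (he : Exact f g) (hg : Surjective g) (hi : Injective (f.lTensor M)) : TorZero R M Q := by
  rw [TorZero, ← LinearMap.lTensor_inj_iff_rTensor_inj]
  exact lTensor_injective_of_exact_of_exact_of_rTensor_injective he hg exact_rel surjective_rel
    ((LinearMap.lTensor_inj_iff_rTensor_inj _ _).mp hi)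
    ((LinearMap.lTensor_inj_iff_rTensor_inj _ _).mpr hP)

theorem TorZero.of_flat [Module.Flat R Q] : TorZero R M Q :=
  Module.Flat.rTensor_preserves_injective_linearMap _ Subtype.val_injective

theorem TorZero.of_extension (hK : TorZero R M K) (hQ : TorZero R M Q) {f : K →ₗ[R] P} {g : P →ₗ[R] Q}
    (hf : Injective f) (he : Exact f g) (hg : Surjective g) : TorZero R M P := by
  rw [TorZero, injective_iff_map_eq_zero]
  intro x hx
  have h2 : g.lTensor (rel R M) x = 0 := by
    apply hQ
    rw [← LinearMap.comp_apply, LinearMap.rTensor_comp_lTensor, ← LinearMap.lTensor_comp_rTensor,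
      LinearMap.comp_apply, hx, map_zero, map_zero]
  obtain ⟨y, rfl⟩ := (_root_.lTensor_exact (rel R M) he hg x).mp h2
  suffices y = 0 by simp [this]
  apply hK
  apply Module.Flat.lTensor_preserves_injective_linearMap (M := M →₀ R) f hf
  rw [← LinearMap.comp_apply, LinearMap.lTensor_comp_rTensor, ← LinearMap.rTensor_comp_lTensor,
    LinearMap.comp_apply, hx, map_zero, map_zero]

theorem TorZero.of_linearEquiv (h : TorZero R M P) (e : P ≃ₗ[R] Q) : TorZero R M Q :=
  h.of_presentation (f := (0 : P →ₗ[R] P) ∘ₗ (⊥ : Submodule R P).subtype) (g := e.toLinearMap)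
    (by rw [LinearMap.exact_iff]; ext x; simp) e.surjective
    (fun x y _ => by
      have : Subsingleton (M ⊗[R] (⊥ : Submodule R P)) := inferInstance
      exact Subsingleton.elim x y)

theorem torZero_quotient_iff (I : Ideal R) :
    TorZero R M (R ⧸ I) ↔ Injective (I.subtype.lTensor M) := by
  refine ⟨fun h => h.lTensor_injective Subtype.val_injective ?_ (Submodule.mkQ_surjective _),
    fun h => TorZero.of_presentation (TorZero.of_flat (Q := R)) ?_ (Submodule.mkQ_surjective _) h⟩ <;>
  exact LinearMap.exact_subtype_mkQ I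

theorem TorZero.finsupp (ι : Type u) (h : TorZero R M Q) : TorZero R M (ι →₀ Q) := by
  classical
  rw [TorZero, injective_iff_map_eq_zero]
  intro x hx
  apply (TensorProduct.finsuppRight R R (rel R M) Q ι).injective
  ext i
  rw [map_zero, Finsupp.zero_apply, TensorProduct.finsuppRight_apply]
  apply h
  rw [map_zero, ← LinearMap.comp_apply, LinearMap.rTensor_comp_lTensor,
    ← LinearMap.lTensor_comp_rTensor, LinearMap.comp_apply, hx, map_zero]

theorem TorZero.of_subsingleton [Subsingleton Q] : TorZero R M Q := fun _ _ _ =>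
  Subsingleton.elim _ _

end TorZero

section Annihilated

variable {R : Type u} [CommRing R] {M : Type u} [AddCommGroup M] [Module R M]

theorem lTensor_injective_of_flat_baseChange (B : Type u) [CommRing B] [Algebra R B]
    [Module.Flat B (B ⊗[R] M)] {K : Type u} [AddCommGroup K] [Module R K] [Module B K]
    [IsScalarTower R B K] {N : Type u} [AddCommGroup N] [Module R N] [Module B N]
    [IsScalarTower R B N] (f : K →ₗ[B] N) (hf : Injective f) :
    Injective ((f.restrictScalars R).lTensor M) := by
  rw [LinearMap.lTensor_inj_iff_rTensor_inj]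
  have h := Module.Flat.rTensor_preserves_injective_linearMap (M := B ⊗[R] M) f hf
  let eK := TensorProduct.AlgebraTensorModule.cancelBaseChange R B B K M
  let eN := TensorProduct.AlgebraTensorModule.cancelBaseChange R B B N M
  have : ∀ x, eN (f.rTensor (B ⊗[R] M) x) = (f.restrictScalars R).rTensor M (eK x) := by
    intro x
    induction x with
    | zero => simp
    | add x y hx hy => simp [hx, hy]
    | tmul k y =>
      induction y with
      | zero => simp
      | add x y hx hy => simp_all [TensorProduct.tmul_add]
      | tmul b m => simp [eK, eN]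
  intro x y hxy
  obtain ⟨x, rfl⟩ := eK.surjective x
  obtain ⟨y, rfl⟩ := eK.surjective y
  rw [← this, ← this] at hxy
  exact congrArg eK (h (eN.injective hxy))

/-- If `Tor₁(M, R/I) = 0` and `M/IM` is flat over `R/I`, then `Tor₁(M, Q) = 0` for every `Q`
killed by `I`. -/
theorem torZero_of_smul_eq_bot {I : Ideal R} (h1 : Injective (I.subtype.lTensor M))
    [Module.Flat (R ⧸ I) ((R ⧸ I) ⊗[R] M)] {Q : Type u} [AddCommGroup Q] [Module R Q]
    (hQ : I • (⊤ : Submodule R Q) = ⊥) : TorZero R M Q := by
  have htor : Module.IsTorsionBySet R Q I := fun x a => by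
    have : (a : R) • x ∈ I • (⊤ : Submodule R Q) := Submodule.smul_mem_smul a.2 trivial
    simpa [hQ] using this
  letI := htor.module
  haveI : IsScalarTower R (R ⧸ I) Q := htor.isScalarTower
  let g := Finsupp.linearCombination (R ⧸ I) (id : Q → Q)
  letI : AddCommGroup ↥(LinearMap.ker g) := Submodule.addCommGroup _
  refine TorZero.of_presentation (P := Q →₀ R ⧸ I) (K := ↥(LinearMap.ker g)) (((torZero_quotient_iff I).mpr h1).finsupp Q)
    (f := (LinearMap.ker g).subtype.restrictScalars R) (g := g.restrictScalars R) ?_
    (Finsupp.linearCombination_id_surjective _ Q) ?_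
  · exact LinearMap.exact_subtype_ker_map g
  · exact lTensor_injective_of_flat_baseChange (R ⧸ I) _ Subtype.val_injective

theorem torZero_of_pow_smul_eq_bot {I : Ideal R} (h1 : Injective (I.subtype.lTensor M))
    [Module.Flat (R ⧸ I) ((R ⧸ I) ⊗[R] M)] (n : ℕ) {Q : Type u} [AddCommGroup Q] [Module R Q]
    (hQ : I ^ n • (⊤ : Submodule R Q) = ⊥) : TorZero R M Q := by
  induction n generalizing Q with
  | zero =>
    rw [pow_zero, Ideal.one_eq_top, Submodule.top_smul] at hQ
    haveI : Subsingleton Q :=
      (Submodule.subsingleton_iff R).mp (subsingleton_iff_bot_eq_top.mp hQ.symm)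
    exact TorZero.of_subsingleton
  | succ n ih =>
    let Q' : Submodule R Q := I • ⊤
    refine TorZero.of_extension (K := Q') (Q := Q ⧸ Q') (ih ?_) (torZero_of_smul_eq_bot h1 ?_)
      (f := Q'.subtype) Subtype.val_injective (LinearMap.exact_subtype_mkQ Q') (Submodule.mkQ_surjective _)
    · apply Submodule.map_injective_of_injective Q'.injective_subtype
      rw [Submodule.map_smul'', Submodule.map_top, Submodule.range_subtype, Submodule.map_bot,
        ← mul_smul, ← pow_succ, hQ]
    · rw [← Submodule.range_mkQ Q', ← Submodule.map_top, ← Submodule.map_smul'',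
        Submodule.mkQ_map_self]

theorem flat_of_torZero (h : ∀ I : Ideal R, TorZero R M (R ⧸ I)) : Module.Flat R M :=
  Module.Flat.iff_lTensor_injective'.mpr fun I => (torZero_quotient_iff I).mp (h I)

/-- Flatness from flatness modulo a nilpotent ideal. -/
theorem flat_of_isNilpotent {I : Ideal R} (hI : IsNilpotent I)
    (h1 : Injective (I.subtype.lTensor M)) [Module.Flat (R ⧸ I) ((R ⧸ I) ⊗[R] M)] :
    Module.Flat R M := by
  obtain ⟨n, hn⟩ := hI
  exact flat_of_torZero fun J => torZero_of_pow_smul_eq_bot h1 n (by rw [hn]; simp)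

end Annihilated

section Noetherian

variable {R : Type u} [CommRing R] {M : Type u} [AddCommGroup M] [Module R M]

theorem range_lTensor_subtype_le {K : Type u} [AddCommGroup K] [Module R K] (I : Ideal R)
    (N : Submodule R K) (hN : N ≤ I • ⊤) :
    LinearMap.range (N.subtype.lTensor M) ≤ I • (⊤ : Submodule R (M ⊗[R] K)) := by
  rintro _ ⟨x, rfl⟩
  induction x with
  | zero => simp
  | add x y hx hy => rw [map_add]; exact add_mem hx hy
  | tmul m n =>
    suffices ∀ k ∈ I • (⊤ : Submodule R K), m ⊗ₜ[R] k ∈ I • (⊤ : Submodule R (M ⊗[R] K)) from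
      this n (hN n.2)
    intro k hk
    refine Submodule.smul_induction_on hk (fun r hr k _ => ?_) (fun x y hx hy => ?_)
    · rw [TensorProduct.tmul_smul]; exact Submodule.smul_mem_smul hr trivial
    · rw [TensorProduct.tmul_add]; exact add_mem hx hy

variable {S : Type u} [CommRing S] [Algebra R S]

theorem mem_map_smul_top {I : Ideal R} {N : Type u} [AddCommGroup N] [Module R N] [Module S N]
    [IsScalarTower R S N] {x : N} (hx : x ∈ I • (⊤ : Submodule R N)) :
    x ∈ I.map (algebraMap R S) • (⊤ : Submodule S N) := by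
  refine Submodule.smul_induction_on hx (fun r hr k _ => ?_) (fun x y hx hy => add_mem hx hy)
  rw [← algebraMap_smul S r k]
  exact Submodule.smul_mem_smul (Ideal.mem_map_of_mem _ hr) trivial

theorem eq_zero_of_forall_mem_pow_smul [IsNoetherianRing S] {I : Ideal R}
    (hI : I.map (algebraMap R S) ≤ Ideal.jacobson ⊥) {N : Type u} [AddCommGroup N] [Module R N]
    [Module S N] [IsScalarTower R S N] [Module.Finite S N] {x : N}
    (hx : ∀ n : ℕ, x ∈ I ^ n • (⊤ : Submodule R N)) : x = 0 := by
  rw [← Submodule.mem_bot S, ← Ideal.iInf_pow_smul_eq_bot_of_le_jacobson (M := N) _ hI,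
    Submodule.mem_iInf]
  intro n
  rw [← Ideal.map_pow]
  exact mem_map_smul_top (hx n)

variable [Module S M] [IsScalarTower R S M]

theorem finite_tensor [Module.Finite S M] (J : Type u) [AddCommGroup J] [Module R J]
    [Module.Finite R J] : Module.Finite S (M ⊗[R] J) := by
  obtain ⟨n, f, hf⟩ := Module.Finite.exists_fin' R J
  exact Module.Finite.of_surjective
    ((TensorProduct.AlgebraTensorModule.lTensor S M f) ∘ₗ
      (TensorProduct.piScalarRight R S M (Fin n)).symm.toLinearMap)
    ((LinearMap.lTensor_surjective M hf).comp (LinearEquiv.surjective _))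

/-- Krull intersection / Artin–Rees form of the local criterion of flatness. -/
theorem flat_of_lTensor_injective_mod_pow [IsNoetherianRing R] [IsNoetherianRing S]
    [Module.Finite S M] {I : Ideal R} (hI : I.map (algebraMap R S) ≤ Ideal.jacobson ⊥)
    (H : ∀ (n : ℕ) (N' : Submodule R (R ⧸ I ^ n)), Injective (N'.subtype.lTensor M)) :
    Module.Flat R M := by
  rw [Module.Flat.iff_lTensor_injective']
  intro J
  haveI := finite_tensor (R := R) (S := S) (M := M) J
  rw [injective_iff_map_eq_zero]
  intro x hx
  obtain ⟨k, hk⟩ := I.exists_pow_inf_eq_pow_smul (J : Submodule R R)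
  apply eq_zero_of_forall_mem_pow_smul (S := S) hI
  intro m
  let π : J →ₗ[R] R ⧸ I ^ (m + k) := (Submodule.mkQ (I ^ (m + k))) ∘ₗ J.subtype
  have h1 : π.rangeRestrict.lTensor M x = 0 := by
    apply H _ (LinearMap.range π)
    rw [map_zero, ← LinearMap.comp_apply, ← LinearMap.lTensor_comp,
      show (LinearMap.range π).subtype ∘ₗ π.rangeRestrict = (Submodule.mkQ (I ^ (m + k))) ∘ₗ J.subtype from rfl,
      LinearMap.lTensor_comp, LinearMap.comp_apply, hx, map_zero]
  obtain ⟨y, hy⟩ := (_root_.lTensor_exact M (f := (LinearMap.ker π).subtype) (g := π.rangeRestrict)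
    (by rw [LinearMap.exact_iff, LinearMap.ker_rangeRestrict, Submodule.range_subtype])
    π.surjective_rangeRestrict x).mp h1
  rw [← hy]
  refine range_lTensor_subtype_le (I ^ m) _ ?_ ⟨y, rfl⟩
  intro j hj
  have h2 : (j : R) ∈ (I ^ (m + k) • (⊤ : Submodule R R)) ⊓ J :=
    ⟨by simpa [π, Ideal.Quotient.eq_zero_iff_mem] using hj, j.2⟩
  rw [hk (m + k) (by omega), Nat.add_sub_cancel] at h2
  have h3 : (j : R) ∈ (I ^ m • (⊤ : Submodule R J)).map (J : Submodule R R).subtype := by
    rw [Submodule.map_smul'', Submodule.map_top, Submodule.range_subtype]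
    exact Submodule.smul_mono le_rfl inf_le_right h2
  obtain ⟨j', hj', he⟩ := h3
  rwa [← Subtype.ext he]

/-- Local criterion of flatness with respect to an ideal. -/
theorem flat_of_le_jacobson [IsNoetherianRing R] [IsNoetherianRing S]
    [Module.Finite S M] {I : Ideal R} (hI : I.map (algebraMap R S) ≤ Ideal.jacobson ⊥)
    (h1 : Injective (I.subtype.lTensor M)) [Module.Flat (R ⧸ I) ((R ⧸ I) ⊗[R] M)] :
    Module.Flat R M := by
  refine flat_of_lTensor_injective_mod_pow (S := S) hI fun n N' => ?_
  refine TorZero.lTensor_injective (torZero_of_pow_smul_eq_bot h1 n ?_) Subtype.val_injective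
    (LinearMap.exact_subtype_mkQ N') (Submodule.mkQ_surjective _)
  rw [← Submodule.range_mkQ N', ← Submodule.map_top, ← Submodule.map_smul'']
  have : I ^ n • (⊤ : Submodule R (R ⧸ I ^ n)) = ⊥ := by
    rw [← Submodule.range_mkQ (I ^ n : Submodule R R), ← Submodule.map_top, ← Submodule.map_smul'',
      Ideal.smul_eq_mul, Ideal.mul_top, Submodule.mkQ_map_self]
  rw [this, Submodule.map_bot]

theorem lTensor_injective_of_flat_quotient_pow {I : Ideal R} (n : ℕ)
    [Module.Flat (R ⧸ I ^ n) ((R ⧸ I ^ n) ⊗[R] M)] (N' : Submodule R (R ⧸ I ^ n)) :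
    Injective (N'.subtype.lTensor M) := by
  let N : Submodule (R ⧸ I ^ n) (R ⧸ I ^ n) :=
    { N'.toAddSubmonoid with
      smul_mem' := fun c x hx => by
        obtain ⟨c, rfl⟩ := Ideal.Quotient.mk_surjective c
        exact N'.smul_mem c hx }
  exact lTensor_injective_of_flat_baseChange (R ⧸ I ^ n) N.subtype Subtype.val_injective

theorem lTensor_baseChange_injective {K : Type u} [AddCommGroup K] [Module R K] {N : Type u}
    [AddCommGroup N] [Module R N] (f : K →ₗ[R] N) (B : Type u) [AddCommGroup B] [Module S B]
    [Module R B] [IsScalarTower R S B] [Module.Flat S B] (hf : Injective (f.lTensor M)) :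
    Injective (f.lTensor (B ⊗[S] M)) := by
  let eK := TensorProduct.AlgebraTensorModule.assoc R S S B M K
  let eN := TensorProduct.AlgebraTensorModule.assoc R S S B M N
  let fS : M ⊗[R] K →ₗ[S] M ⊗[R] N := TensorProduct.AlgebraTensorModule.lTensor S M f
  have : ∀ x, eN (f.lTensor (B ⊗[S] M) x) = fS.lTensor B (eK x) := by
    intro x
    induction x with
    | zero => simp
    | add x y hx hy => simp [hx, hy]
    | tmul bm k =>
      induction bm with
      | zero => simp
      | add x y hx hy => simp_all [TensorProduct.add_tmul]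
      | tmul b m => simp [eK, eN, fS]
  intro x y hxy
  apply eK.injective
  apply Module.Flat.lTensor_preserves_injective_linearMap (M := B) fS hf
  rw [← this, ← this, hxy]

end Noetherian

end Groth.Agent.FlatCrit
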