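import Groth.Agent.FlatCrit.Basic

universe u

open scoped TensorProduct
open LinearMap Function

namespace Groth.Agent.FlatCrit

variable {R S M : Type u} [CommRing R] [CommRing S] [Algebra R S] [AddCommGroup M] [Module R M]
  [Module S M] [IsScalarTower R S M]

/-- If `I ⊗ M → M` is injective then so is `IS ⊗_S M → M`. -/
theorem lTensor_subtype_map_injective {I : Ideal R} (h : Injective (I.subtype.lTensor M)) :
    Injective ((I.map (algebraMap R S)).subtype.lTensor M) := by
  let J := I.map (algebraMap R S)
  let φ₀ : I →ₗ[R] J :=
    { toFun := fun a => ⟨algebraMap R S a, Ideal.mem_map_of_mem _ a.2⟩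
      map_add' := fun a b => by ext; simp
      map_smul' := fun r a => by ext; simp [Algebra.smul_def] }
  let φ : M ⊗[R] I →ₗ[R] M ⊗[S] J :=
    TensorProduct.lift
      { toFun := fun m =>
          { toFun := fun a => m ⊗ₜ[S] φ₀ a
            map_add' := fun a b => by simp [TensorProduct.tmul_add]
            map_smul' := fun r a => by
              rw [map_smul, RingHom.id_apply, ← algebraMap_smul S r (φ₀ a), TensorProduct.tmul_smul,
                algebraMap_smul] }
        map_add' := fun a b => by ext; simp [TensorProduct.add_tmul]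
        map_smul' := fun r a => by ext; simp [TensorProduct.smul_tmul'] }
  have hsurj : Surjective φ := by
    intro x
    induction x with
    | zero => exact ⟨0, map_zero _⟩
    | add x y hx hy =>
      obtain ⟨x, rfl⟩ := hx
      obtain ⟨y, rfl⟩ := hy
      exact ⟨x + y, map_add _ _ _⟩
    | tmul m j =>
      obtain ⟨j, hj⟩ := j
      change j ∈ Submodule.span S _ at hj
      induction hj using Submodule.span_induction generalizing m with
      | mem y hy =>
        obtain ⟨a, ha, rfl⟩ := hy
        exact ⟨m ⊗ₜ ⟨a, ha⟩, rfl⟩
      | zero => exact ⟨0, by simp [show (⟨0, zero_mem J⟩ : J) = 0 from rfl]⟩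
      | add y z hy hz ihy ihz =>
        obtain ⟨y', hy'⟩ := ihy m
        obtain ⟨z', hz'⟩ := ihz m
        exact ⟨y' + z', by rw [map_add, hy', hz', ← TensorProduct.tmul_add]; rfl⟩
      | smul s y hy ih =>
        obtain ⟨y', hy'⟩ := ih (s • m)
        exact ⟨y', by rw [hy', TensorProduct.smul_tmul]; rfl⟩
  have key : ∀ x, TensorProduct.rid S M (J.subtype.lTensor M (φ x)) =
      TensorProduct.rid R M (I.subtype.lTensor M x) := by
    intro x
    induction x with
    | zero => simp
    | add x y hx hy => simp [hx, hy]
    | tmul m a => simp [φ, φ₀]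
  intro x y hxy
  obtain ⟨x, rfl⟩ := hsurj x
  obtain ⟨y, rfl⟩ := hsurj y
  refine congrArg φ (h ((TensorProduct.rid R M).injective ?_))
  rw [← key, ← key, hxy]

theorem lTensor_subtype_map_injective_of_flat [Module.Flat R M] (I : Ideal R) :
    Injective ((I.map (algebraMap R S)).subtype.lTensor M) :=
  lTensor_subtype_map_injective (Module.Flat.lTensor_preserves_injective_linearMap _ Subtype.val_injective)

end Groth.Agent.FlatCrit
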