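import Groth.Agent.FlatCrit.Basic
import Mathlib.RingTheory.Flat.Localization
import Mathlib.RingTheory.Localization.BaseChange
import Mathlib.RingTheory.Artinian.Module

universe u

open scoped TensorProduct
open LinearMap Function

namespace Groth.Agent.FlatCrit

variable {R S M : Type u} [CommRing R] [CommRing S] [Algebra R S] [AddCommGroup M] [Module R M]

theorem flat_of_baseChange_flat_of_injective_of_isNilpotent [IsLocalRing R]
    (hm : IsNilpotent (IsLocalRing.maximalIdeal R)) (hinj : Injective (algebraMap R S))
    [Module.Flat S (S ⊗[R] M)] : Module.Flat R M := by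
  let k := IsLocalRing.ResidueField R
  let w := Module.Free.chooseBasis k (k ⊗[R] M)
  obtain ⟨v, eq⟩ := (TensorProduct.mk_surjective R M k Ideal.Quotient.mk_surjective).comp_left w
  obtain ⟨n, hn⟩ := hm
  let p : (_ →₀ R) →ₗ[R] M := Finsupp.linearCombination R v
  have hpb : p.baseChange k = w.repr.symm.toLinearMap ∘ₗ
      (TensorProduct.finsuppScalarRight R k k _).toLinearMap := by
    ext i
    have h1 : (1 : k) ⊗ₜ[R] v i = w i := congrFun eq i
    simp [p, h1, TensorProduct.finsuppScalarRight_apply_tmul]
  have hp0 : Surjective (p.lTensor k) := by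
    intro y
    obtain ⟨z, hz⟩ := ((TensorProduct.finsuppScalarRight R k k _).trans w.repr.symm).surjective y
    exact ⟨z, by rw [← hz]; exact LinearMap.congr_fun hpb z⟩
  have hsurj : Surjective p := by
    rw [← LinearMap.range_eq_top]
    have h1 : LinearMap.range p ⊔ IsLocalRing.maximalIdeal R • (⊤ : Submodule R M) = ⊤ := by
      rw [eq_top_iff]
      intro m _
      obtain ⟨y, hy⟩ := hp0 ((1 : k) ⊗ₜ m)
      obtain ⟨c, rfl⟩ := TensorProduct.mk_surjective R _ k Ideal.Quotient.mk_surjective y
      have : m - p c ∈ IsLocalRing.maximalIdeal R • (⊤ : Submodule R M) := by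
        refine (LinearMap.ker_tensorProductMk (I := IsLocalRing.maximalIdeal R) (Q := M)).le ?_
        simp only [TensorProduct.mk_apply, LinearMap.lTensor_tmul] at hy
        simp only [LinearMap.mem_ker, TensorProduct.mk_apply, TensorProduct.tmul_sub]
        exact sub_eq_zero.mpr hy.symm
      simpa using Submodule.add_mem_sup (LinearMap.mem_range_self p c) this
    have : ∀ j : ℕ, LinearMap.range p ⊔ IsLocalRing.maximalIdeal R ^ j • (⊤ : Submodule R M) = ⊤ := by
      intro j
      induction j with
      | zero => simp [Ideal.one_eq_top]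
      | succ j ih =>
        rw [eq_top_iff]
        conv_lhs => rw [← h1]
        refine sup_le le_sup_left ?_
        conv_lhs => rw [← ih, Submodule.smul_sup, ← mul_smul, ← pow_succ']
        exact sup_le_sup_right Submodule.smul_le_right _
    have hn' := this n
    rwa [hn, Ideal.zero_eq_bot, Submodule.bot_smul, sup_bot_eq] at hn'
  let a := (IsLocalRing.maximalIdeal R).map (algebraMap R S)
  let u : S ⊗[R] (_ →₀ R) →ₗ[S] S ⊗[R] M := p.baseChange S
  let e := TensorProduct.finsuppScalarRight R S S (Module.Free.ChooseBasisIndex k (k ⊗[R] M))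
  let κ : k →ₗ[R] S ⧸ a := Submodule.liftQ _ (((Submodule.mkQ a).restrictScalars R).comp (Algebra.linearMap R S))
    (fun r hr => by
      simp only [LinearMap.mem_ker, LinearMap.coe_comp, Function.comp_apply, LinearMap.restrictScalars_apply,
        Submodule.mkQ_apply, Submodule.Quotient.mk_eq_zero, Algebra.linearMap_apply]
      exact Ideal.mem_map_of_mem _ hr)
  let s : S ⊗[R] M →ₗ[S] (_ →₀ S ⧸ a) :=
    TensorProduct.AlgebraTensorModule.lift ((LinearMap.toSpanSingleton S _
      (((Finsupp.mapRange.linearMap κ).comp ((w.repr.toLinearMap.restrictScalars R).comp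
        (TensorProduct.mk R k M 1))))))
  have hs : ∀ x, s (u x) = Finsupp.mapRange.linearMap (Submodule.mkQ a) (e x) := by
    intro x
    induction x with
    | zero => simp
    | add x y hx hy => simp [hx, hy, Finsupp.mapRange_add]
    | tmul b c =>
      induction c using Finsupp.induction_linear with
      | zero => simp
      | add x y hx hy => simp_all [TensorProduct.tmul_add, Finsupp.mapRange_add]
      | single i r =>
        have h1 : (1 : k) ⊗ₜ[R] v i = w i := congrFun eq i
        have h2 : w.repr ((1 : k) ⊗ₜ[R] v i) = Finsupp.single i 1 := by rw [h1, w.repr_self]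
        ext j
        rcases eq_or_ne j i with rfl | hj
        · have hκ : κ 1 = Submodule.Quotient.mk 1 := by
            show Submodule.Quotient.mk (algebraMap R S 1) = _
            rw [map_one]
          simp [s, u, p, e, h2, hκ, ← Submodule.Quotient.mk_smul, Algebra.smul_def, mul_comm]
        · simp [s, u, p, e, h2, hj.symm, hj]
  have hu : Surjective u := LinearMap.lTensor_surjective S hsurj
  let K := LinearMap.ker u
  letI : AddCommGroup ↥K := Submodule.addCommGroup _
  have hK : (⊤ : Submodule S K) ≤ a • ⊤ := by
    intro x _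
    have h1 : Injective (K.subtype.lTensor (S ⧸ a)) :=
      (TorZero.of_flat (M := S ⧸ a) (Q := S ⊗[R] M)).lTensor_injective Subtype.val_injective
        (LinearMap.exact_subtype_ker_map u) hu
    refine (LinearMap.ker_tensorProductMk (I := a) (Q := K)).le ?_
    rw [LinearMap.mem_ker]
    apply h1
    rw [map_zero, TensorProduct.mk_apply, LinearMap.lTensor_tmul, ← TensorProduct.mk_apply,
      ← LinearMap.mem_ker, LinearMap.ker_tensorProductMk]
    have h2 : Finsupp.mapRange.linearMap (Submodule.mkQ a) (e x.1) = 0 := by
      rw [← hs, LinearMap.mem_ker.mp x.2, map_zero]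
    show x.1 ∈ a • ⊤
    rw [← e.symm_apply_apply x.1, ← Finsupp.sum_single (e x.1), map_finsuppSum]
    refine sum_mem fun i _ => ?_
    have h3 : e x.1 i ∈ a := by
      rw [← Submodule.Quotient.mk_eq_zero]
      simpa using DFunLike.congr_fun h2 i
    simp only
    rw [← mul_one (e x.1 i), ← smul_eq_mul, ← Finsupp.smul_single, map_smul]
    exact Submodule.smul_mem_smul h3 trivial
  have hK' : ∀ j : ℕ, (⊤ : Submodule S K) ≤ a ^ j • ⊤ := by
    intro j
    induction j with
    | zero => simp [Ideal.one_eq_top]
    | succ j ih => rw [pow_succ, mul_smul]; exact ih.trans (Submodule.smul_mono le_rfl hK)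
  haveI : Subsingleton K := by
    refine (Submodule.subsingleton_iff S).mp (subsingleton_iff_bot_eq_top.mp ?_)
    have := hK' n
    rw [← Ideal.map_pow, hn] at this
    simpa [eq_comm] using this
  have hpinj : Injective p := by
    rw [← LinearMap.ker_eq_bot, Submodule.eq_bot_iff]
    intro c hc
    have h1 : (⟨(1 : S) ⊗ₜ c, by simp [K, u, LinearMap.mem_ker.mp hc]⟩ : K) = 0 := Subsingleton.elim _ _
    ext i
    apply hinj
    have := DFunLike.congr_fun (congrArg e (congrArg Subtype.val h1)) i
    simpa [e, Algebra.smul_def] using this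
  exact Module.Flat.of_linearEquiv (LinearEquiv.ofBijective p ⟨hpinj, hsurj⟩).symm

theorem flat_of_baseChange_flat_of_injective [IsArtinianRing R]
    (hinj : Injective (algebraMap R S)) [Module.Flat S (S ⊗[R] M)] : Module.Flat R M := by
  refine Module.flat_of_localized_maximal _ fun P hP => ?_
  let Rp := Localization.AtPrime P
  let T := Rp ⊗[R] S
  have hinjT : Injective (algebraMap Rp T) := by
    intro x y hxy
    apply (TensorProduct.rid R Rp).symm.injective
    apply Module.Flat.lTensor_preserves_injective_linearMap (M := Rp) (Algebra.linearMap R S) hinj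
    show x ⊗ₜ[R] algebraMap R S 1 = y ⊗ₜ[R] algebraMap R S 1
    rw [map_one]
    exact hxy
  haveI : IsArtinianRing Rp := inferInstance
  letI : Algebra S T := Algebra.TensorProduct.rightAlgebra
  haveI : IsScalarTower R S T := .of_algebraMap_eq' (by
    ext r
    simp [T, RingHom.algebraMap_toAlgebra, Algebra.TensorProduct.algebraMap_apply]
    )
  haveI : Module.Flat T (T ⊗[S] (S ⊗[R] M)) := inferInstance
  haveI : Module.Flat T (T ⊗[R] M) := Module.Flat.of_linearEquiv
    (TensorProduct.AlgebraTensorModule.cancelBaseChange R S T T M).symm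
  haveI : Module.Flat T (T ⊗[Rp] (Rp ⊗[R] M)) := Module.Flat.of_linearEquiv
    (TensorProduct.AlgebraTensorModule.cancelBaseChange R Rp T T M)
  haveI : Module.Flat Rp (Rp ⊗[R] M) := flat_of_baseChange_flat_of_injective_of_isNilpotent
    ((IsLocalRing.jacobson_eq_maximalIdeal (R := Rp) ⊥ bot_ne_top) ▸ IsArtinianRing.isNilpotent_jacobson_bot) hinjT
  haveI : Module.Flat R (Rp ⊗[R] M) := Module.Flat.trans R Rp _
  exact Module.Flat.of_linearEquiv ((LocalizedModule.equivTensorProduct P.primeCompl M).restrictScalars R)

end Groth.Agent.FlatCrit
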