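import Groth.Agent.FlatCrit.Basic
import Mathlib.RingTheory.Localization.BaseChange

universe u

open scoped TensorProduct
open LinearMap Function

namespace Groth.Agent.FlatCrit

variable {A M : Type u} [CommRing A] [AddCommGroup M] [Module A M]

theorem flat_of_away_and_quotient (f : A) (hA : f ∈ nonZeroDivisors A) (hM : IsSMulRegular M f)
    [Module.Flat (Localization.Away f) (LocalizedModule (Submonoid.powers f) M)]
    [Module.Flat (A ⧸ Ideal.span {f}) ((A ⧸ Ideal.span {f}) ⊗[A] M)] : Module.Flat A M := by
  have h1 : Injective ((Ideal.span {f}).subtype.lTensor M) := by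
    let g : A →ₗ[A] Ideal.span {f} := LinearMap.toSpanSingleton A _ ⟨f, Ideal.mem_span_singleton_self f⟩
    have hg : Surjective g := by
      rintro ⟨x, hx⟩
      obtain ⟨a, rfl⟩ := Ideal.mem_span_singleton'.mp hx
      exact ⟨a, by ext; simp [g]⟩
    have key : ∀ y, TensorProduct.rid A M ((Ideal.span {f}).subtype.lTensor M (g.lTensor M y)) =
        f • TensorProduct.rid A M y := by
      intro y
      induction y with
      | zero => simp
      | add x y hx hy => simp [hx, hy]
      | tmul m a => simp [g, smul_smul, mul_comm]
    intro x y hxy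
    obtain ⟨x, rfl⟩ := LinearMap.lTensor_surjective M hg x
    obtain ⟨y, rfl⟩ := LinearMap.lTensor_surjective M hg y
    refine congrArg _ ((TensorProduct.rid A M).injective (hM ?_))
    simp only
    rw [← key, ← key, hxy]
  let B := Localization.Away f
  haveI : Module.Flat B (B ⊗[A] M) :=
    Module.Flat.of_linearEquiv (LocalizedModule.equivTensorProduct (Submonoid.powers f) M).symm
  haveI : Module.Flat A (B ⊗[A] M) := Module.Flat.trans A B _
  rw [Module.Flat.iff_lTensor_injective']
  intro J
  -- multiplication by `f` is injective on `M ⊗ J`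
  let μ : J →ₗ[A] J := LinearMap.lsmul A J f
  have hμ : Injective μ := fun a b hab => by
    ext
    exact mul_cancel_left_mem_nonZeroDivisors hA |>.mp (congrArg Subtype.val hab)
  have hreg : Injective (μ.lTensor M) := by
    refine TorZero.lTensor_injective (torZero_of_smul_eq_bot h1 ?_) hμ (LinearMap.exact_map_mkQ_range μ)
      (Submodule.mkQ_surjective _)
    rw [eq_bot_iff, Submodule.smul_le]
    intro r hr x _
    obtain ⟨x, rfl⟩ := Submodule.mkQ_surjective _ x
    obtain ⟨a, rfl⟩ := Ideal.mem_span_singleton'.mp hr
    rw [Submodule.mem_bot, ← map_smul, Submodule.mkQ_apply, Submodule.Quotient.mk_eq_zero]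
    exact ⟨a • x, by simp [μ, smul_smul, mul_comm]⟩
  rw [injective_iff_map_eq_zero]
  intro x hx
  let eK := TensorProduct.assoc A B M J
  have hloc : TensorProduct.mk A B (M ⊗[A] J) 1 x = 0 := by
    apply eK.symm.injective
    apply Module.Flat.lTensor_preserves_injective_linearMap (M := B ⊗[A] M) J.subtype Subtype.val_injective
    have key : ∀ y : M ⊗[A] J, J.subtype.lTensor (B ⊗[A] M) (eK.symm ((1 : B) ⊗ₜ y)) =
        (TensorProduct.assoc A B M A).symm ((1 : B) ⊗ₜ J.subtype.lTensor M y) := by
      intro y
      induction y with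
      | zero => simp
      | add a b ha hb => simp [TensorProduct.tmul_add, ha, hb]
      | tmul m a => simp [eK]
    rw [map_zero, map_zero, TensorProduct.mk_apply, key, hx, TensorProduct.tmul_zero, map_zero]
  obtain ⟨⟨s, n, rfl⟩, hs⟩ :=
    (IsLocalizedModule.eq_zero_iff (Submonoid.powers f) (TensorProduct.mk A B (M ⊗[A] J) 1)).mp hloc
  replace hs : f ^ n • x = 0 := hs
  clear hloc hx
  induction n with
  | zero => simpa using hs
  | succ n ih =>
    rw [pow_succ', mul_smul] at hs
    have hμf : ∀ z : M ⊗[A] J, μ.lTensor M z = f • z := fun z => by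
      induction z with
      | zero => simp
      | add x y hx hy => simp [hx, hy]
      | tmul m a => simp [μ, TensorProduct.tmul_smul]
    exact ih (hreg (by rw [map_zero, hμf]; exact hs))

end Groth.Agent.FlatCrit
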